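import Groth.Agent.Sga2.ThickSec
import Groth.Agent.Ega2.TensGen
import Groth.Agent.CurvesC.HomRel
import Groth.Agent.S0051
import Groth.Agent.Fga.SnapperTwist
import Groth.Agent.Sga67.CohBasic

/-!
# Sections of powers of an ample module on a closed subscheme lift

`ker_iso`: the kernel of `L → i_* i^* L` (`L` invertible, `i` the closed immersion of `W`) is
`idealMod W ⊗ L`.
`eventually_surjective`: `Γ(X, A^q) → Γ(W, i^* A^q)` is surjective for `q` large (`A` ample).
-/

set_option autoImplicit false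
universe u

open CategoryTheory CategoryTheory.Limits AlgebraicGeometry TopologicalSpace Opposite

namespace K518.KerUnit

open Groth.Agent Groth.Agent.Fdesc.LocGen Groth.Agent.Dix.IdealModCartier
  Groth.Agent.Dix.IdealModSec Groth.Agent.Sga2.ThickSec Groth.Agent.Ega2

variable {X : Scheme.{u}} (W : X.IdealSheafData) {L : X.Modules}

/-- `c ⊗ l ↦ c l` -/
noncomputable def kap (L : X.Modules) : CohB1.tensorMod (ClSub.idealMod W) L ⟶ L :=
  Tens.mapT (ClSub.idealModι W) (𝟙 L) ≫ (Tens.lunit L).hom

theorem kap_tmul {U : X.Opens} (c : Γ(ClSub.idealMod W, U)) (l : Γ(L, U)) :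
    (kap W L).app U (tmul c l) = val W c • l := by
  have h1 : (Tens.mapT (ClSub.idealModι W) (𝟙 L)).app U (tmul c l) =
      tmul ((ClSub.idealModι W).app U c) l := Tens.mapT_tmul _ _ _ _
  change (Tens.lunit L).hom.app U ((Tens.mapT (ClSub.idealModι W) (𝟙 L)).app U (tmul c l)) = _
  rw [h1]
  exact Tens.lunit_hom_tmul (val W c) l

theorem unit_smul (V : X.Opens) (c : Γ(ClSub.idealMod W, V)) (l : Γ(L, V)) :
    (unitM W.subschemeι L).app V (val W c • l) = 0 := by
  change pullSec W.subschemeι (val W c • l) = 0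
  rw [pullSec_smul]
  have h1 : (W.subschemeι.app V (val W c) : Γ(W.subscheme, W.subschemeι ⁻¹ᵁ V)) = 0 :=
    subschemeι_app_idealModι W V c
  rw [h1]
  exact zero_smul _ _

theorem kap_unit : kap W L ≫ unitM W.subschemeι L = 0 := by
  refine Tens.hom_ext _ _ fun U m n => ?_
  change (unitM W.subschemeι L).app U ((kap W L).app U (tmul m n)) = 0
  rw [kap_tmul, unit_smul]

/-- sections which vanish locally vanish -/
theorem eq_zero_of_locally (M : X.Modules) {U : X.Opens} (s : Γ(M, U))
    (h : ∀ x ∈ U, ∃ (V : X.Opens) (hV : V ≤ U), x ∈ V ∧ res M hV s = 0) : s = 0 := by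
  choose V hV hxV hs using fun x : U => h x.1 x.2
  refine res_ext M V hV (fun x hx => Opens.mem_iSup.mpr ⟨⟨x, hx⟩, hxV _⟩) fun i => ?_
  rw [hs, map_zero]

theorem kap_injective (hL : PicF.IsInvertible L) (U : X.Opens) : Function.Injective ((kap W L).app U) := by
  rw [injective_iff_map_eq_zero]
  intro s hs
  refine eq_zero_of_locally _ s fun x hx => ?_
  obtain ⟨V, e, hxV, hVU, -, he⟩ := TensGen.exists_affine_gen hL x (V := U) hx
  refine ⟨V, hVU, hxV, ?_⟩
  obtain ⟨t, ht⟩ := TensGen.exists_eq_tmul he (res _ hVU s)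
  rw [ht]
  have h1 : (kap W L).app V (res _ hVU s) = 0 := by
    rw [app_res, hs, map_zero]
  rw [ht, kap_tmul] at h1
  have h2 : val W t = 0 := he.ext (by rw [h1, zero_smul])
  have h3 : t = 0 := val_injective W (by rw [h2]; exact (map_zero ((ClSub.idealModι W).app V).hom).symm)
  rw [h3]
  exact TensGen.zero_tmul e

/-- sections killed by the unit come from the ideal, locally -/
theorem exists_of_unit_eq_zero (hL : PicF.IsInvertible L) (U : X.Opens) (s : Γ(L, U))
    (hs : (unitM W.subschemeι L).app U s = 0) (x : X) (hx : x ∈ U) :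
    ∃ (V : X.Opens) (hV : V ≤ U) (t : Γ(CohB1.tensorMod (ClSub.idealMod W) L, V)), x ∈ V ∧
      (kap W L).app V t = res L hV s := by
  obtain ⟨V, e, hxV, hVU, hVa, he⟩ := TensGen.exists_affine_gen hL x (V := U) hx
  obtain ⟨a, ha⟩ := he.exists_eq (res L hVU s)
  have h1 : (unitM W.subschemeι L).app V (a • e) = 0 := by
    rw [← ha, app_res, hs, map_zero]
  change pullSec W.subschemeι (a • e) = 0 at h1
  rw [pullSec_smul] at h1
  have h2 : (W.subschemeι.app V a : Γ(W.subscheme, W.subschemeι ⁻¹ᵁ V)) = 0 := by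
    apply (he.pullSec W.subschemeι).ext
    rw [zero_smul]
    exact h1
  obtain ⟨c, hc⟩ := exists_of_subschemeι_app_eq_zero W V a h2
  refine ⟨V, hVU, tmul c e, hxV, ?_⟩
  rw [kap_tmul, ha]
  congr 1

/-- the map to the kernel -/
noncomputable def toKer (L : X.Modules) : CohB1.tensorMod (ClSub.idealMod W) L ⟶ kernel (unitM W.subschemeι L) :=
  kernel.lift _ (kap W L) (kap_unit W)

theorem toKer_ι : toKer W L ≫ kernel.ι (unitM W.subschemeι L) = kap W L := kernel.lift_ι _ _ _

theorem toKer_app {U : X.Opens} (s) : (kernel.ι (unitM W.subschemeι L)).app U ((toKer W L).app U s) =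
    (kap W L).app U s := congr(($(toKer_ι W (L := L))).app U s)

theorem ker_iso (hL : PicF.IsInvertible L) :
    Nonempty (CohB1.tensorMod (ClSub.idealMod W) L ≅ kernel (unitM W.subschemeι L)) := by
  have hmono : Mono (toKer W L) := by
    apply mono_of_injective
    intro U s s' h
    apply kap_injective W hL U
    rw [← toKer_app, ← toKer_app, h]
  have hk := fun V => kernel_app_injective (unitM W.subschemeι L) V
  have hepi : Epi (toKer W L) := by
    apply CurvesC.HomRel.epi_of_locSurj
    intro U y q hq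
    obtain ⟨V, hV, t, hqV, ht⟩ := exists_of_unit_eq_zero W hL U ((kernel.ι (unitM W.subschemeι L)).app U y)
      (by exact congr(($(kernel.condition (unitM W.subschemeι L))).app U y)) q hq
    refine ⟨V, hV, hqV, t, ?_⟩
    apply hk V
    rw [toKer_app, ht]
    exact (app_res (kernel.ι (unitM W.subschemeι L)) hV y).symm
  have : IsIso (toKer W L) := isIso_of_mono_of_epi _
  exact ⟨asIso (toKer W L)⟩

theorem locSurj_unit' (hL : PicF.IsInvertible L) : CohqA.H1Lift.LocSurj (unitM W.subschemeι L) := by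
  intro U s x hx
  obtain ⟨V, l, hxV, hV, hVa, hl⟩ := TensGen.exists_affine_gen hL x (V := U) hx
  have h1 : IsGen (pullSec W.subschemeι l) := hl.pullSec _
  obtain ⟨c, hc⟩ := h1.exists_eq (res ((Scheme.Modules.pullback W.subschemeι).obj L)
    (W.subschemeι.preimage_mono hV) s)
  obtain ⟨a, ha⟩ := W.subschemeι_app_surjective ⟨V, hVa⟩ c
  refine ⟨V, hV, a • l, hxV, ?_⟩
  change pullSec W.subschemeι (a • l) =
    res ((Scheme.Modules.pullback W.subschemeι).obj L) (W.subschemeι.preimage_mono hV) s
  rw [pullSec_smul, hc]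
  congr 1

variable {k : Type u} [Field k] [X.Over (Spec (CommRingCat.of k))] [IsProper (X ↘ Spec (CommRingCat.of k))]

/-- **lifting of sections** from a closed subscheme for large powers of an ample module. -/
theorem eventually_surjective (k : Type u) [Field k] [X.Over (Spec (CommRingCat.of k))]
    [IsProper (X ↘ Spec (CommRingCat.of k))] {A : X.Modules} (hA : CohB1.IsAmple A) :
    ∃ q₀ : ℕ, ∀ q, q₀ ≤ q → Function.Surjective
      (fun s : Γ(CohB1.tensorPow A q, ⊤) => pullTop W.subschemeι s) := by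
  have : IsNoetherian X := Fga.SnapperTwist.isNoetherian_of_proper k X
  have hmono := CohqA.IdealMod.mono_idealModι W
  have hI : Coh.IsCoh (ClSub.idealMod W) :=
    Sga67.CohBasic.isCoh_of_mono (ClSub.idealModι W) (Fdesc.StructMod.isCoh_structureModule X)
      (CohqA.IdealMod.isQCoh_idealMod W)
  obtain ⟨q₀, hq₀⟩ := (S0051.result k X (X ↘ Spec (CommRingCat.of k)) A hA.1).1 hA _ hI
  refine ⟨q₀, fun q hq => ?_⟩
  have hinv := isInvertible_tensorPow hA.1 q
  obtain ⟨e⟩ := ker_iso W hinv
  have h1 := hq₀ q hq 1 one_pos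
  exact CohqA.H1Lift.app_top_surjective_of_H1 (unitM W.subschemeι (CohB1.tensorPow A q))
    (locSurj_unit' W hinv) (Sga2.ThickCoh.subsingleton_HH_of_iso e 1 h1)

end K518.KerUnit
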