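import Groth.Agent.AdjLin.K518.CountW
import Groth.Agent.AdjLin.K518.KerUnit
import Groth.Agent.Divis.CartierStalk
import Groth.Agent.Models.H38.SecDiv
import Groth.Agent.Ega3B.PullTensor
import Groth.Agent.CohqB.AmpCocycle

/-!
# COUNT: divisors of high multiplicity along a closed subvariety

`X` proper integral over an algebraically closed field, `A` ample, `W` an integral closed subscheme of dimension
`d ≥ 1`, `x ∈ W` closed with `length (O_x / (W_x + 𝔪^j)) ≤ μ C(j + d - 1, d)`, `μ < ρ^d`.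
Then there are an effective divisor `D ∈ |A^q|`, not containing `W`, with `D_x ⊆ W_x + 𝔪^j` and `q ≤ ρ j`.
-/

set_option autoImplicit false
universe u

open CategoryTheory CategoryTheory.Limits AlgebraicGeometry TopologicalSpace Opposite

namespace K518.Count

open Groth.Agent Groth.Agent.Fdesc.LocGen Groth.Agent.Divis.CartierBasic Groth.Agent.Divis.CartierStalk IsLocalRing
  K518.CountW

/-- The divisor of a nonzero section, with its local equations. -/
theorem exists_divisor {X : Scheme.{u}} [IsIntegral X] {M : X.Modules} (hM : PicF.IsInvertible M) (t : Γ(M, ⊤))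
    (ht : t ≠ 0) :
    ∃ D : X.IdealSheafData, BlowUp.IsEffCartierIdeal D ∧ ClSub.IsInverseOf M (ClSub.idealMod D) ∧
      ∀ (U : X.affineOpens) (e : Γ(M, U.1)) (a : Γ(X, U.1)), IsGen e →
        res M le_top t = a • e → D.ideal U = Ideal.span {a} :=
  Models.H38.SecDiv.exists_divisor hM t (by
    intro V e a he hae
    by_cases hV : (V.1 : Set X).Nonempty
    · have hnz : a ≠ 0 := by
        rintro rfl
        rw [zero_smul] at hae
        exact ht (CurvesC.InvSec.eq_zero_of_res_eq_zero hM le_top hV t hae)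
      have : Nonempty V.1 := hV.to_subtype
      exact mem_nonZeroDivisors_of_ne_zero hnz
    · have hb : V.1 = ⊥ := by
        rw [← TopologicalSpace.Opens.coe_eq_empty]
        exact Set.not_nonempty_iff_eq_empty.1 hV
      have : Subsingleton Γ(X, V.1) := by
        rw [hb]
        exact inferInstanceAs (Subsingleton Γ(X, ⊥))
      rw [Subsingleton.elim a 1]
      exact one_mem _)

variable {X : Scheme.{u}}

/-- the local rings of a closed subscheme -/
theorem length_le (W : X.IdealSheafData) (y : W.subscheme) (j : ℕ) :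
    Module.length (W.subscheme.presheaf.stalk y)
      (W.subscheme.presheaf.stalk y ⧸ maximalIdeal (W.subscheme.presheaf.stalk y) ^ j) ≤
    Module.length (X.presheaf.stalk (W.subschemeι y)) (X.presheaf.stalk (W.subschemeι y) ⧸
      (stalkIdeal W (W.subschemeι y) ⊔ maximalIdeal (X.presheaf.stalk (W.subschemeι y)) ^ j)) := by
  let φ := (W.subschemeι.stalkMap y).hom
  have hφ : Function.Surjective φ := stalkMap_subschemeι_surjective W y
  let _ : Algebra (X.presheaf.stalk (W.subschemeι y)) (W.subscheme.presheaf.stalk y) := φ.toAlgebra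
  rw [← Module.length_eq_of_surjective (S := X.presheaf.stalk (W.subschemeι y))
    (R := W.subscheme.presheaf.stalk y) hφ]
  have hle : stalkIdeal W (W.subschemeι y) ⊔ maximalIdeal (X.presheaf.stalk (W.subschemeι y)) ^ j ≤
      (maximalIdeal (W.subscheme.presheaf.stalk y) ^ j).comap φ := by
    refine sup_le ?_ ?_
    · rw [← ker_stalkMap_subschemeι]
      exact Ideal.comap_mono bot_le
    · rw [← Ideal.map_le_iff_le_comap, Ideal.map_pow, IsLocalRing.map_maximalIdeal_of_surjective φ hφ]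
  let f : (X.presheaf.stalk (W.subschemeι y) ⧸
      (stalkIdeal W (W.subschemeι y) ⊔ maximalIdeal (X.presheaf.stalk (W.subschemeι y)) ^ j)) →ₗ[
      X.presheaf.stalk (W.subschemeι y)]
      (W.subscheme.presheaf.stalk y ⧸ maximalIdeal (W.subscheme.presheaf.stalk y) ^ j) :=
    Submodule.liftQ _ ((Submodule.mkQ (maximalIdeal (W.subscheme.presheaf.stalk y) ^ j)).restrictScalars _ ∘ₗ
      Algebra.linearMap _ _) (by
        intro z hz
        rw [LinearMap.mem_ker]
        exact (Submodule.Quotient.mk_eq_zero _).2 (hle hz))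
  refine Module.length_le_of_surjective f fun z => ?_
  obtain ⟨z, rfl⟩ := Submodule.Quotient.mk_surjective _ z
  obtain ⟨w, rfl⟩ := hφ z
  exact ⟨Submodule.Quotient.mk w, rfl⟩

variable (k : Type u) [Field k] [IsAlgClosed k] [X.Over (Spec (CommRingCat.of k))]
  [IsProper (X ↘ Spec (CommRingCat.of k))] [IsIntegral X]

include k in
/-- **COUNT**, for all large `q`. -/
theorem eventually {A : X.Modules} (hA : CohB1.IsAmple A) (W : X.IdealSheafData) [IsIntegral W.subscheme]
    {d : ℕ} (hd : 1 ≤ d) (hdim : topologicalKrullDim W.subscheme = (d : WithBot ℕ∞))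
    (x : X) (hx : IsClosed ({x} : Set X)) (hxW : x ∈ W.support) (mu : ℕ)
    (hlen : ∀ j : ℕ, Module.length (X.presheaf.stalk x)
      (X.presheaf.stalk x ⧸ (stalkIdeal W x ⊔ maximalIdeal (X.presheaf.stalk x) ^ j)) ≤
        ((mu * (j + d - 1).choose d : ℕ) : ℕ∞))
    (rho : ℝ) (hr : 0 < rho) (h : (mu : ℝ) < rho ^ d) :
    ∃ Q : ℕ, ∀ q : ℕ, Q ≤ q → ∀ j : ℕ, (j : ℝ) ≤ q / rho + 1 →
      ∃ D : X.IdealSheafData, BlowUp.IsEffCartierIdeal D ∧
        ClSub.IsInverseOf (CohB1.tensorPow A q) (ClSub.idealMod D) ∧ ¬ D ≤ W ∧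
        stalkIdeal D x ≤ stalkIdeal W x ⊔ maximalIdeal (X.presheaf.stalk x) ^ j := by
  obtain ⟨y, rfl⟩ := exists_subscheme_apply_eq W hxW
  let _ : W.subscheme.Over (Spec (CommRingCat.of k)) := ⟨W.subschemeι ≫ (X ↘ Spec (CommRingCat.of k))⟩
  have hover : W.subscheme ↘ Spec (CommRingCat.of k) = W.subschemeι ≫ (X ↘ Spec (CommRingCat.of k)) := rfl
  have : IsProper (W.subscheme ↘ Spec (CommRingCat.of k)) := by rw [hover]; infer_instance
  have hAY := CohqB.AmpCocycle.isAmple_pullback W.subschemeι hA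
  have hy : IsClosed ({y} : Set W.subscheme) := by
    have h1 : ({y} : Set W.subscheme) = W.subschemeι ⁻¹' {W.subschemeι y} := by
      ext z
      simp only [Set.mem_singleton_iff, Set.mem_preimage]
      exact ⟨fun h => by rw [h], fun h => W.subschemeι.isClosedEmbedding.injective h⟩
    rw [h1]
    exact hx.preimage W.subschemeι.continuous
  obtain ⟨Q₁, hQ₁⟩ := exists_section k hAY hd hdim y hy mu (fun j => (length_le W y j).trans (hlen j)) rho hr h
  obtain ⟨Q₂, hQ₂⟩ := KerUnit.eventually_surjective W k hA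
  refine ⟨max Q₁ Q₂, fun q hq j hj => ?_⟩
  obtain ⟨tY, htY, hgerm⟩ := hQ₁ q ((le_max_left _ _).trans hq) j hj
  obtain ⟨ψ⟩ := Ega3B.PullTensor.nonempty_pullPowIso W.subschemeι hA.1 q
  obtain ⟨t, ht⟩ := hQ₂ q ((le_max_right _ _).trans hq) (ψ.inv.app ⊤ tY)
  have hM := isInvertible_tensorPow hA.1 q
  have htY' : ψ.hom.app ⊤ (pullTop W.subschemeι t) = tY := by
    have h1 : pullTop W.subschemeι t = ψ.inv.app ⊤ tY := ht
    rw [h1]
    exact congr(($(ψ.inv_hom_id)).app ⊤ tY)
  -- local coordinates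
  have key : ∀ (V : X.Opens) (e : Γ(CohB1.tensorPow A q, V)) (a : Γ(X, V)), res _ le_top t = a • e →
      res _ le_top tY = (W.subschemeι.app V a : Γ(W.subscheme, W.subschemeι ⁻¹ᵁ V)) •
        ψ.hom.app _ (pullSec W.subschemeι e) := by
    intro V e a hae
    have h1 := res_pullSec W.subschemeι (le_top : V ≤ ⊤) t
    rw [hae, pullSec_smul] at h1
    have h2 := congrArg (ψ.hom.app (W.subschemeι ⁻¹ᵁ V)) h1
    rw [app_res, Scheme.Modules.Hom.app_smul] at h2
    rw [← h2, ← htY']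
    rfl
  have ht0 : t ≠ 0 := by
    rintro rfl
    apply htY
    rw [← htY']
    have h1 : pullTop W.subschemeι (0 : Γ(CohB1.tensorPow A q, ⊤)) = 0 :=
      map_zero (((Scheme.Modules.pullbackPushforwardAdjunction W.subschemeι).unit.app _).app ⊤).hom
    rw [h1]
    exact map_zero (ψ.hom.app ⊤).hom
  obtain ⟨D, hD, hinv, hDe⟩ := exists_divisor hM t ht0
  obtain ⟨V, e, hxV, -, hVa, he⟩ := Ega2.TensGen.exists_affine_gen hM (W.subschemeι y) (V := ⊤) trivial
  obtain ⟨a, hae⟩ := he.exists_eq (res _ le_top t)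
  have hDa : D.ideal ⟨V, hVa⟩ = Ideal.span {a} := hDe ⟨V, hVa⟩ e a he hae
  have heY : IsGen (ψ.hom.app (W.subschemeι ⁻¹ᵁ V) (pullSec W.subschemeι e)) :=
    IsGen.app ψ.hom (he.pullSec W.subschemeι)
  have hk := key V e a hae
  refine ⟨D, hD, hinv, fun hle => ?_, ?_⟩
  · have h1 : a ∈ W.ideal ⟨V, hVa⟩ := by
      apply hle ⟨V, hVa⟩
      rw [hDa]
      exact Ideal.mem_span_singleton_self a
    have h2 : (W.subschemeι.app V a : Γ(W.subscheme, W.subschemeι ⁻¹ᵁ V)) = 0 := by
      have := W.ker_subschemeι_app ⟨V, hVa⟩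
      rw [← this] at h1
      exact h1
    rw [h2, zero_smul] at hk
    exact htY (CurvesC.InvSec.eq_zero_of_res_eq_zero (isInvertible_tensorPow hAY.1 q) le_top ⟨y, hxV⟩ tY hk)
  · rw [stalkIdeal_eq D ⟨V, hVa⟩ hxV, hDa, Ideal.map_span, Set.image_singleton, Ideal.span_le,
      Set.singleton_subset_iff]
    have h1 := hgerm (W.subschemeι ⁻¹ᵁ V) hxV _ heY _ hk
    have h2 : (W.subschemeι.stalkMap y).hom ((X.presheaf.germ V (W.subschemeι y) hxV).hom a) ∈
        maximalIdeal (W.subscheme.presheaf.stalk y) ^ j := by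
      have h3 : (W.subschemeι.stalkMap y).hom ((X.presheaf.germ V (W.subschemeι y) hxV).hom a) =
          (W.subscheme.presheaf.germ (W.subschemeι ⁻¹ᵁ V) y hxV).hom (W.subschemeι.app V a) :=
        Scheme.Hom.germ_stalkMap_apply _ _ _ _ _
      rw [h3]
      exact h1
    have hφ : Function.Surjective (W.subschemeι.stalkMap y).hom := stalkMap_subschemeι_surjective W y
    rw [← IsLocalRing.map_maximalIdeal_of_surjective _ hφ, ← Ideal.map_pow, ← Ideal.mem_comap,
      Ideal.comap_map_of_surjective _ hφ, ← RingHom.ker_eq_comap_bot, ker_stalkMap_subschemeι, sup_comm] at h2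
    exact h2

include k in
/-- **COUNT**. -/
theorem main {A : X.Modules} (hA : CohB1.IsAmple A) (W : X.IdealSheafData) [IsIntegral W.subscheme]
    {d : ℕ} (hd : 1 ≤ d) (hdim : topologicalKrullDim W.subscheme = (d : WithBot ℕ∞))
    (x : X) (hx : IsClosed ({x} : Set X)) (hxW : x ∈ W.support) (mu : ℕ)
    (hlen : ∀ j : ℕ, Module.length (X.presheaf.stalk x)
      (X.presheaf.stalk x ⧸ (stalkIdeal W x ⊔ maximalIdeal (X.presheaf.stalk x) ^ j)) ≤
        ((mu * (j + d - 1).choose d : ℕ) : ℕ∞))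
    (rho : ℚ) (hr : 0 < rho) (h : (mu : ℚ) < rho ^ d) :
    ∃ j q : ℕ, 0 < j ∧ 0 < q ∧ (q : ℚ) ≤ rho * j ∧
      ∃ D : X.IdealSheafData, BlowUp.IsEffCartierIdeal D ∧
        ClSub.IsInverseOf (CohB1.tensorPow A q) (ClSub.idealMod D) ∧ ¬ D ≤ W ∧
        stalkIdeal D x ≤ stalkIdeal W x ⊔ maximalIdeal (X.presheaf.stalk x) ^ j := by
  obtain ⟨Q, hQ⟩ := eventually k hA W hd hdim x hx hxW mu hlen (rho : ℝ) (by exact_mod_cast hr) (by exact_mod_cast h)
  have hq : 0 < max Q 1 := lt_of_lt_of_le one_pos (le_max_right _ _)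
  have hqr : (0 : ℚ) < (max Q 1 : ℕ) / rho := div_pos (by exact_mod_cast hq) hr
  obtain ⟨D, hD, hinv, hW, hst⟩ := hQ (max Q 1) (le_max_left _ _) ⌈((max Q 1 : ℕ) : ℚ) / rho⌉₊ (by
    have h1 := (Nat.ceil_lt_add_one hqr.le).le
    have h2 : (((⌈((max Q 1 : ℕ) : ℚ) / rho⌉₊ : ℕ) : ℚ) : ℝ) ≤ ((((max Q 1 : ℕ) : ℚ) / rho + 1 : ℚ) : ℝ) := by
      exact_mod_cast h1
    push_cast at h2
    exact_mod_cast h2)
  refine ⟨⌈((max Q 1 : ℕ) : ℚ) / rho⌉₊, max Q 1, Nat.ceil_pos.2 hqr, hq, ?_, D, hD, hinv, hW, hst⟩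
  have h1 := Nat.le_ceil (((max Q 1 : ℕ) : ℚ) / rho)
  rw [div_le_iff₀ hr] at h1
  rw [mul_comm]
  exact h1

end K518.Count
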