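import Mathlib.Analysis.SpecificLimits.Basic
import Mathlib.Data.Nat.Choose.Bounds
import Mathlib.Data.Nat.Choose.Cast

/-!
# The elementary estimate for counting sections with high multiplicity
-/

set_option autoImplicit false

open Filter Topology

namespace K518.CountNum

theorem eventually_lt (d C mu : ℕ) (hd : 1 ≤ d) (rho : ℝ) (hr : 0 < rho) (h : (mu : ℝ) < rho ^ d) :
    ∃ Q : ℕ, ∀ q : ℕ, Q ≤ q → ∀ j : ℕ, (j : ℝ) ≤ q / rho + 1 →
      (mu : ℝ) * ((j : ℝ) + d) ^ d + C * ((q : ℝ) + 1) ^ (d - 1) < (q : ℝ) ^ d := by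
  have hinv : Tendsto (fun x : ℝ => x⁻¹) atTop (𝓝 0) := tendsto_inv_atTop_zero
  have h1 : Tendsto (fun x : ℝ => (mu : ℝ) * (1 / rho + ((1 : ℝ) + d) * x⁻¹) ^ d +
      C * (1 + x⁻¹) ^ (d - 1) * x⁻¹) atTop
      (𝓝 ((mu : ℝ) * (1 / rho + ((1 : ℝ) + d) * 0) ^ d + C * (1 + 0) ^ (d - 1) * 0)) :=
    ((tendsto_const_nhds.mul ((tendsto_const_nhds.add (tendsto_const_nhds.mul hinv)).pow d)).add
      ((tendsto_const_nhds.mul ((tendsto_const_nhds.add hinv).pow (d - 1))).mul hinv))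
  have h2 : (mu : ℝ) * (1 / rho + ((1 : ℝ) + d) * 0) ^ d + C * (1 + 0) ^ (d - 1) * 0 < 1 := by
    rw [mul_zero, mul_zero, add_zero, add_zero, one_div, inv_pow, ← div_eq_mul_inv]
    rwa [div_lt_one (by positivity)]
  obtain ⟨M, hM⟩ := (eventually_atTop.1 (h1.eventually_lt_const h2))
  obtain ⟨Q, hQ⟩ := exists_nat_gt (max M 1)
  refine ⟨Q, fun q hq j hj => ?_⟩
  have hq1 : max M 1 < (q : ℝ) := lt_of_lt_of_le hQ (by exact_mod_cast hq)
  have hqM : M ≤ (q : ℝ) := (le_max_left _ _).trans hq1.le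
  have hq0 : (0 : ℝ) < q := lt_of_lt_of_le one_pos ((le_max_right _ _).trans hq1.le)
  have h3 := hM q hqM
  have h4 : ((q : ℝ)) ^ d = (q : ℝ) ^ (d - 1) * q := by
    rw [← pow_succ, Nat.sub_add_cancel hd]
  have h5 := mul_lt_mul_of_pos_left h3 (show (0 : ℝ) < (q : ℝ) ^ d by positivity)
  rw [mul_one] at h5
  refine lt_of_le_of_lt ?_ h5
  have h6 : (q : ℝ) ^ d * ((mu : ℝ) * (1 / rho + ((1 : ℝ) + d) * (q : ℝ)⁻¹) ^ d +
      C * (1 + (q : ℝ)⁻¹) ^ (d - 1) * (q : ℝ)⁻¹) =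
      mu * (q / rho + (1 + d)) ^ d + C * (q + 1) ^ (d - 1) := by
    have e1 : (q : ℝ) ^ d * (1 / rho + ((1 : ℝ) + d) * (q : ℝ)⁻¹) ^ d = (q / rho + (1 + d)) ^ d := by
      rw [← mul_pow]
      congr 1
      field_simp
    have e2 : (q : ℝ) ^ (d - 1) * (1 + (q : ℝ)⁻¹) ^ (d - 1) = (q + 1) ^ (d - 1) := by
      rw [← mul_pow]
      congr 1
      field_simp
    calc (q : ℝ) ^ d * ((mu : ℝ) * (1 / rho + ((1 : ℝ) + d) * (q : ℝ)⁻¹) ^ d +
        C * (1 + (q : ℝ)⁻¹) ^ (d - 1) * (q : ℝ)⁻¹)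
        = mu * ((q : ℝ) ^ d * (1 / rho + ((1 : ℝ) + d) * (q : ℝ)⁻¹) ^ d) +
          C * ((q : ℝ) ^ (d - 1) * (1 + (q : ℝ)⁻¹) ^ (d - 1)) * (q * (q : ℝ)⁻¹) := by
          rw [h4]; ring
      _ = _ := by rw [e1, e2, mul_inv_cancel₀ hq0.ne', mul_one]
  rw [h6]
  have h7 : (j : ℝ) + d ≤ q / rho + (1 + d) := by linarith
  gcongr

/-- the binomial coefficient against powers -/
theorem factorial_mul_choose_le (j d : ℕ) (hd : 1 ≤ d) : d.factorial * (j + d - 1).choose d ≤ (j + d) ^ d := by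
  rw [← Nat.descFactorial_eq_factorial_mul_choose]
  exact (Nat.descFactorial_le_pow _ _).trans (Nat.pow_le_pow_left (by omega) _)

theorem count (d C mu : ℕ) (hd : 1 ≤ d) (rho : ℝ) (hr : 0 < rho) (h : (mu : ℝ) < rho ^ d) (H : ℕ → ℕ)
    (hH : ∀ q : ℕ, ((q : ℤ)) ^ d ≤ d.factorial * (H q : ℤ) + C * ((q : ℤ) + 1) ^ (d - 1)) :
    ∃ Q : ℕ, ∀ q : ℕ, Q ≤ q → ∀ j : ℕ, (j : ℝ) ≤ q / rho + 1 → mu * (j + d - 1).choose d < H q := by
  obtain ⟨Q, hQ⟩ := eventually_lt d C mu hd rho hr h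
  refine ⟨Q, fun q hq j hj => ?_⟩
  have h1 := hQ q hq j hj
  have h2 : ((q : ℝ)) ^ d ≤ d.factorial * (H q : ℝ) + C * ((q : ℝ) + 1) ^ (d - 1) := by
    exact_mod_cast hH q
  have h3 : (mu : ℝ) * ((j : ℝ) + d) ^ d < d.factorial * (H q : ℝ) := by linarith
  have h4 : mu * (j + d) ^ d < d.factorial * H q := by exact_mod_cast h3
  have h5 : d.factorial * (mu * (j + d - 1).choose d) < d.factorial * H q := by
    refine lt_of_le_of_lt ?_ h4
    calc d.factorial * (mu * (j + d - 1).choose d) = mu * (d.factorial * (j + d - 1).choose d) := by ring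
      _ ≤ _ := Nat.mul_le_mul_left _ (factorial_mul_choose_le j d hd)
  exact lt_of_mul_lt_mul_left h5 (Nat.zero_le _)

end K518.CountNum
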