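import Groth.Agent.AdjLin.K518.CountNum
import Groth.Agent.PosLin.K931.NefMain
import Groth.Agent.PosLin.K931.NakC
import Groth.Agent.Vanish.K909.NefTens
import Groth.Agent.Lefpen.H705.ClosedPoint
import Groth.Agent.CurvesB.HZero
import Groth.Agent.CurvesC.InvSec
import Mathlib.RingTheory.LocalRing.Length

/-!
# Sections of powers of an ample module with high multiplicity at a point

`h0_lower` : `m^d ≤ d! h⁰(A^m) + C (m+1)^(d-1)`, `A` ample on an integral proper scheme of dimension `d`.
`exists_kernel` : a `k`-linear map from a space of dimension `> length (O_x / J)` to `O_x / J` has a kernel.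
`exists_section` : sections of `A^q` with vanishing order `≥ j`.
-/

set_option autoImplicit false
universe u

open CategoryTheory CategoryTheory.Limits AlgebraicGeometry TopologicalSpace Opposite

namespace K518.CountW

open Groth.Agent Groth.Agent.Fga Groth.Agent.Fga.PicMon K910.HZ K931.HQ K909.Kleiman K909.InterML
  Groth.Agent.Fdesc.LocGen Groth.Agent.Grpsch.PicGrp IsLocalRing

section Lower

variable (k : Type u) [Field k] {X : Scheme.{u}} [X.Over (Spec (CommRingCat.of k))]
  [IsProper (X ↘ Spec (CommRingCat.of k))] [IsIntegral X]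

omit [IsIntegral X] in
theorem inter_pos {A : X.Modules} (hA : CohB1.IsAmple A) {d : ℕ} (hdim : topologicalKrullDim X = (d : WithBot ℕ∞)) :
    0 < inter k X d (Coh.structureModule X) (fun _ : Fin d => mk A hA.1) := by
  have h1 : mk A hA.1 * mk (dual A) (isInvertible_dual hA.1) = 1 := by
    rw [← inv_mk hA.1, mul_inv_cancel]
  have h2 : mc A * mc (dual A) = 1 := by
    have := congrArg (Pic13.H970.IntForm.toMC X) h1
    rwa [map_mul, map_one] at this
  have h3 : Nonempty (CohB1.tensorMod A (dual A) ≅ Coh.structureModule X) := by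
    rw [← mc_eq_iff, mc_tensor, h2, mc_one]
  rw [inter_mk k X d (Coh.structureModule X) (fun _ : Fin d => A) (fun _ => dual A) (fun _ => hA.1)
    (fun _ => isInvertible_dual hA.1) (fun _ => h3)]
  exact PosMain.intNum_pos k X d hdim.le (fun _ => A) _ (fun _ => hA) (fun _ => h3) _
    (HodgeSec.isCoh_of_isInvertible isInvertible_structureModule) (by
      rw [K931.NefGrowth.dim_unit, hdim])

/-- `m^d ≤ d! h⁰(A^m) + C (m+1)^(d-1)`. -/
theorem h0_lower {A : X.Modules} (hA : CohB1.IsAmple A) {d : ℕ} (hd : 1 ≤ d)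
    (hdim : topologicalKrullDim X = (d : WithBot ℕ∞)) :
    ∃ C : ℕ, ∀ m : ℕ, ((m : ℤ)) ^ d ≤
      d.factorial * (Module.finrank k (Coh.HH X (CohB1.tensorPow A m) 0) : ℤ) + C * ((m : ℤ) + 1) ^ (d - 1) := by
  obtain ⟨r, rfl⟩ : ∃ r, d = r + 1 := ⟨d - 1, by omega⟩
  obtain ⟨C, hC⟩ := K931.NefMain.h0_asym (K931.NakC.nak k) hA hA.1 (nef_of_ample k X hA) hdim
  refine ⟨C, fun m => ?_⟩
  have h1 := (abs_le.mp (hC m)).1
  have h2 := inter_pos k hA hdim
  have h3 : HZ k X (mc A ^ m) = Module.finrank k (Coh.HH X (CohB1.tensorPow A m) 0) := by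
    rw [← mc_tensorPow, HZ_mc]
  rw [h3] at h1
  have h4 : ((m : ℤ)) ^ (r + 1) ≤
      inter k X (r + 1) (Coh.structureModule X) (fun _ : Fin (r + 1) => mk A hA.1) * (m : ℤ) ^ (r + 1) :=
    le_mul_of_one_le_left (by positivity) h2
  have h5 : (r + 1 - 1) = r := rfl
  rw [h5]
  linarith

end Lower

section Kernel

/-- a linear map from a space of dimension bigger than the length of the target has a kernel -/
theorem exists_kernel {k : Type u} [Field k] {O : Type u} [CommRing O] [IsLocalRing O] [Algebra k O]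
    (hres : Function.Surjective (algebraMap k (ResidueField O))) (J : Ideal O)
    {V : Type u} [AddCommGroup V] [Module k V] (f : V →ₗ[k] O ⧸ J)
    (h : Module.length O (O ⧸ J) < Module.finrank k V) : ∃ v : V, v ≠ 0 ∧ f v = 0 := by
  by_contra! hcon
  have hinj : Function.Injective f := by
    rw [injective_iff_map_eq_zero]
    intro v hv
    by_contra hne
    exact hcon v hne hv
  have hloc : IsLocalHom (algebraMap k O) := ⟨fun a ha => by
    by_contra h
    have h0 : a = 0 := by
      by_contra h1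
      exact h (IsUnit.mk0 a h1)
    rw [h0, map_zero] at ha
    exact not_isUnit_zero ha⟩
  have h1 : Module.length (ResidueField k) (ResidueField O) = 1 := by
    have hs : Function.Surjective (algebraMap (ResidueField k) (ResidueField O)) := by
      intro y
      obtain ⟨x, hx⟩ := hres y
      exact ⟨IsLocalRing.residue k x, hx⟩
    rw [Module.length_eq_of_surjective hs, Module.length_eq_finrank]
    simp
  have h2 : Module.length k (O ⧸ J) = Module.length O (O ⧸ J) := by
    rw [IsLocalRing.length_restrictScalars k O (O ⧸ J), h1, mul_one]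
  have h3 : Module.length k V ≤ Module.length k (O ⧸ J) := Module.length_le_of_injective f hinj
  rw [h2] at h3
  have h4 : (Module.finrank k V : ℕ∞) ≤ Module.length k V := by
    rw [Module.length_eq_rank, Module.finrank]
    exact ENat.natCast_toNat_le_self _
  exact absurd h (not_lt.mpr (h4.trans h3))

end Kernel

section Germ

variable {X : Scheme.{u}} {L : X.Modules} {x : X}

/-- the coordinate of a global section with respect to a local generator -/
noncomputable def coord {V : X.Opens} {e : Γ(L, V)} (he : IsGen e) (t : Γ(L, ⊤)) : Γ(X, V) :=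
  (he.exists_eq (res L le_top t)).choose

theorem coord_spec {V : X.Opens} {e : Γ(L, V)} (he : IsGen e) (t : Γ(L, ⊤)) :
    res L le_top t = coord he t • e := (he.exists_eq (res L le_top t)).choose_spec

theorem coord_add {V : X.Opens} {e : Γ(L, V)} (he : IsGen e) (t t' : Γ(L, ⊤)) :
    coord he (t + t') = coord he t + coord he t' := by
  apply he.ext
  rw [← coord_spec, add_smul, ← coord_spec, ← coord_spec, map_add]

theorem coord_smul {V : X.Opens} {e : Γ(L, V)} (he : IsGen e) (r : Γ(X, ⊤)) (t : Γ(L, ⊤)) :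
    coord he (r • t) = ores le_top r * coord he t := by
  apply he.ext
  rw [← coord_spec, mul_smul, ← coord_spec, res_smul]

/-- the coordinates of a section with respect to two generators differ by a unit of the local ring -/
theorem germ_unit {V V' : X.Opens} (hx : x ∈ V) (hx' : x ∈ V') {e : Γ(L, V)} {e' : Γ(L, V')} (he : IsGen e)
    (he' : IsGen e') {t : Γ(L, ⊤)} {a : Γ(X, V)} {a' : Γ(X, V')} (ha : res L le_top t = a • e)
    (ha' : res L le_top t = a' • e') :
    ∃ u : X.presheaf.stalk x, IsUnit u ∧ (X.presheaf.germ V x hx).hom a = u * (X.presheaf.germ V' x hx').hom a' := by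
  have h1 := congrArg (res L (inf_le_left : V ⊓ V' ≤ V)) ha
  have h2 := congrArg (res L (inf_le_right : V ⊓ V' ≤ V')) ha'
  rw [res_res, res_smul] at h1 h2
  obtain ⟨u, hu, hue⟩ := (he.res (inf_le_left : V ⊓ V' ≤ V)).exists_unit (he'.res (inf_le_right : V ⊓ V' ≤ V'))
  have h3 : ores (inf_le_left : V ⊓ V' ≤ V) a = ores inf_le_right a' * u := by
    apply (he.res (inf_le_left : V ⊓ V' ≤ V)).ext
    rw [← h1, h2, mul_smul, hue]
  have hxx : x ∈ V ⊓ V' := ⟨hx, hx'⟩
  refine ⟨(X.presheaf.germ (V ⊓ V') x hxx).hom u, hu.map _, ?_⟩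
  have h4 := congrArg (X.presheaf.germ (V ⊓ V') x hxx).hom h3
  rw [map_mul] at h4
  have g1 : (X.presheaf.germ (V ⊓ V') x hxx).hom (ores inf_le_left a) = (X.presheaf.germ V x hx).hom a :=
    X.presheaf.germ_res_apply (homOfLE (inf_le_left : V ⊓ V' ≤ V)) x hxx a
  have g2 : (X.presheaf.germ (V ⊓ V') x hxx).hom (ores inf_le_right a') = (X.presheaf.germ V' x hx').hom a' :=
    X.presheaf.germ_res_apply (homOfLE (inf_le_right : V ⊓ V' ≤ V')) x hxx a'
  rw [g1, g2] at h4
  rw [h4, mul_comm]

end Germ

section Section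

variable (k : Type u) [Field k] [IsAlgClosed k] {X : Scheme.{u}} [X.Over (Spec (CommRingCat.of k))]

/-- a space of sections of dimension bigger than the length of `O_x / J` contains a nonzero section in `J`. -/
theorem exists_mem [LocallyOfFiniteType (X ↘ Spec (CommRingCat.of k))] {L : X.Modules} (hL : PicF.IsInvertible L)
    (x : X) (hx : IsClosed ({x} : Set X)) (J : Ideal (X.presheaf.stalk x))
    (h : Module.length (X.presheaf.stalk x) (X.presheaf.stalk x ⧸ J) <
      Module.finrank k (Coh.HH X L 0)) :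
    ∃ t : Γ(L, ⊤), t ≠ 0 ∧ ∀ (V : X.Opens) (hxV : x ∈ V) (e : Γ(L, V)), IsGen e → ∀ a : Γ(X, V),
      res L le_top t = a • e → (X.presheaf.germ V x hxV).hom a ∈ J := by
  obtain ⟨V, e, hxV, he⟩ := (isInvertible_iff L).1 hL x
  let g := X ↘ Spec (CommRingCat.of k)
  let _ : Algebra k (X.presheaf.stalk x) := (LefPen.toStalk k g x).toAlgebra
  have hres : Function.Surjective (algebraMap k (ResidueField (X.presheaf.stalk x))) := by
    intro y
    obtain ⟨z, rfl⟩ := residue_surjective y
    obtain ⟨c, hc⟩ := Lefpen.H705.ClosedPoint.exists_sub_toStalk_mem g x hx z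
    refine ⟨c, ?_⟩
    rw [IsScalarTower.algebraMap_apply k (X.presheaf.stalk x) (ResidueField (X.presheaf.stalk x)), eq_comm,
      ← sub_eq_zero]
    change residue _ z - residue _ (LefPen.toStalk k g x c) = 0
    rw [← map_sub, residue_eq_zero_iff]
    exact hc
  let f : Coh.HH X L 0 →ₗ[k] X.presheaf.stalk x ⧸ J :=
    { toFun := fun v => Ideal.Quotient.mk J ((X.presheaf.germ V x hxV).hom
        (coord he (CurvesB.HZero.equivAdd L v)))
      map_add' := fun v w => by rw [map_add, coord_add, map_add, map_add]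
      map_smul' := fun c v => by
        rw [CurvesB.HZero.equivAdd_smul_over, coord_smul, map_mul, RingHom.id_apply, Algebra.smul_def,
          IsScalarTower.algebraMap_apply k (X.presheaf.stalk x) (X.presheaf.stalk x ⧸ J), map_mul]
        congr 2
        exact X.presheaf.germ_res_apply (homOfLE (le_top : V ≤ ⊤)) x hxV _ }
  obtain ⟨v, hv0, hv⟩ := exists_kernel hres J f h
  refine ⟨CurvesB.HZero.equivAdd L v, fun h0 => hv0 ((AddEquiv.map_eq_zero_iff _).1 h0), ?_⟩
  intro V' hxV' e' he' a ha
  obtain ⟨u, -, hu⟩ := germ_unit hxV' hxV he' he ha (coord_spec he _)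
  rw [hu]
  exact J.mul_mem_left _ (Ideal.Quotient.eq_zero_iff_mem.1 hv)

variable [IsProper (X ↘ Spec (CommRingCat.of k))] [IsIntegral X]

include k in
/-- **COUNT**, on an integral proper scheme of dimension `d`: nonzero sections of `A^q` of multiplicity `≥ j`,
for `q` large and `j ≤ q / ρ + 1`, if `length (O_x / m^j) ≤ μ C(j + d - 1, d)` and `μ < ρ^d`. -/
theorem exists_section {A : X.Modules} (hA : CohB1.IsAmple A) {d : ℕ} (hd : 1 ≤ d)
    (hdim : topologicalKrullDim X = (d : WithBot ℕ∞)) (x : X) (hx : IsClosed ({x} : Set X)) (mu : ℕ)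
    (hlen : ∀ j : ℕ, Module.length (X.presheaf.stalk x)
      (X.presheaf.stalk x ⧸ maximalIdeal (X.presheaf.stalk x) ^ j) ≤ ((mu * (j + d - 1).choose d : ℕ) : ℕ∞))
    (rho : ℝ) (hr : 0 < rho) (h : (mu : ℝ) < rho ^ d) :
    ∃ Q : ℕ, ∀ q : ℕ, Q ≤ q → ∀ j : ℕ, (j : ℝ) ≤ q / rho + 1 →
      ∃ t : Γ(CohB1.tensorPow A q, ⊤), t ≠ 0 ∧
        ∀ (V : X.Opens) (hxV : x ∈ V) (e : Γ(CohB1.tensorPow A q, V)), IsGen e → ∀ a : Γ(X, V),
          res _ le_top t = a • e → (X.presheaf.germ V x hxV).hom a ∈ maximalIdeal (X.presheaf.stalk x) ^ j := by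
  obtain ⟨C, hC⟩ := h0_lower k hA hd hdim
  obtain ⟨Q, hQ⟩ := CountNum.count d C mu hd rho hr h _ hC
  refine ⟨Q, fun q hq j hj => ?_⟩
  refine exists_mem k (isInvertible_tensorPow hA.1 q) x hx _ ((hlen j).trans_lt ?_)
  exact_mod_cast hQ q hq j hj

end Section

end K518.CountW
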