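import Groth.Agent.AdjLin.K518.Count
import Groth.Agent.AdjLin.K633.Plan
import Groth.Agent.Resolve.K588.HProj
import Groth.Agent.Variety.K432.CurveLift

/-!
# COUNT in the form of the Fujita plan of helper633
-/

set_option autoImplicit false
universe u

open CategoryTheory CategoryTheory.Limits AlgebraicGeometry TopologicalSpace Opposite

namespace K518.PCount

open Groth.Agent Groth.Agent.Divis.CartierBasic Groth.Agent.Divis.CartierStalk K633.Fuj

variable {k : Type u} [Field k] {X : Scheme.{u}} {p : X ⟶ Spec (CommRingCat.of k)} {n : ℕ} {L : X.Modules}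

theorem range_ptI (w : X) : Set.range (ptI w).subschemeι = closure {w} := by
  rw [Scheme.IdealSheafData.range_subschemeι]
  exact Scheme.IdealSheafData.coe_support_vanishingIdeal _

theorem dim_ptI (w : X) {d : ℕ} (hd : topologicalKrullDim (closure {w} : Set X) = d) :
    topologicalKrullDim (ptI w).subscheme = (d : WithBot ℕ∞) := by
  rw [← hd, ← range_ptI w]
  exact IsHomeomorph.topologicalKrullDim_eq _ (ptI w).subschemeι.isEmbedding.toHomeomorph.isHomeomorph

theorem mem_support_ptI {x w : X} : x ∈ (ptI w).support ↔ w ⤳ x := by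
  rw [specializes_iff_mem_closure]
  exact Set.ext_iff.1 (Scheme.IdealSheafData.coe_support_vanishingIdeal (X := X) ⟨closure {w}, isClosed_closure⟩) x

/-- **NCount**. -/
theorem nCount [IsAlgClosed k] [CharZero k] (C : Ctx p n L) : NCount L := by
  intro x w hx hw d hd hd1 μ₀ hlen ρ hρ h
  have := C.int
  have hp : IsProper p := K588.HProj.isProper C.proj
  let _ : X.Over (Spec (CommRingCat.of k)) := ⟨p⟩
  have : IsProper (X ↘ Spec (CommRingCat.of k)) := hp
  have hint : IsIntegral (ptI w).subscheme := K432.CurveLift.isIntegral_ptIdeal w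
  obtain ⟨j, q, hj, hq, hqr, D, hD, hinv, hDW, hst⟩ := K518.Count.main k C.ample (ptI w) hd1 (dim_ptI w hd) x hx
    (mem_support_ptI.2 hw) μ₀ hlen ρ hρ h
  refine ⟨j, q, hj, hq, hqr, D, hinv, ?_, hst⟩
  rw [← notMem_support_iff_stalkIdeal_eq_top]
  intro hwD
  refine hDW (Scheme.IdealSheafData.le_support_iff_le_vanishingIdeal.1 ?_)
  exact closure_minimal (Set.singleton_subset_iff.2 hwD) D.support.isClosed

end K518.PCount
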