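import Groth.Agent.AdjLin.K633.Plan
import Groth.Agent.Models.H38.TrivGen
import Groth.Agent.Variety.K431.GGTensor

/-!
# NGG, part G2: powers of an ideal inverse to `L^q`
-/

set_option autoImplicit false
universe u

open CategoryTheory CategoryTheory.Limits AlgebraicGeometry TopologicalSpace Opposite

namespace K518.PG2

open Groth.Agent Groth.Agent.Fga.PicMon K633.Fuj

variable {X : Scheme.{u}} {L : X.Modules}

theorem gg_of_unit {M : X.Modules} (h : Nonempty (M ≅ Coh.structureModule X)) : Curv2.IsGloballyGenerated M := by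
  obtain ⟨e⟩ := h
  have h1 := Groth.Agent.Variety.K431.GGTensor.structureModule (X := X)
  exact Groth.Agent.Variety.K431.GGTensor.of_epi e.inv h1

/-- **G2**. -/
theorem gg_pow (I : X.IdealSheafData) (q r : ℕ)
    (h : Nonempty (CohB1.tensorMod (CohB1.tensorPow L q) (ClSub.idealMod I) ≅ Coh.structureModule X)) :
    GG L (r * q) (I ^ r) := by
  have hI : BlowUp.IsEffCartierIdeal I := Groth.Agent.Dix.IdealModCartier.isEffCartierIdeal_of_isInverseOf h
  refine gg_of_unit ((mc_eq_iff _ _).1 ?_)
  have h1 := (mc_eq_iff _ _).2 h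
  rw [mc_tensor, mc_tensorPow, mc_one] at h1
  rw [mc_tensor, mc_tensorPow, Groth.Agent.Models.H38.TrivGen.mc_idealMod_pow hI, mc_one, mul_comm r q, pow_mul,
    ← mul_pow, h1, one_pow]

end K518.PG2
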