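import Mathlib.Algebra.Order.Floor.Semiring
import Mathlib.Data.Nat.Choose.Basic
import Mathlib.Data.Rat.Floor
import Mathlib.Tactic

/-!
# PATH: the arithmetic of the descending chains of centres

`IsPath n ρ Φ`: `ρ d c` is a rational number with `ρ^d > C(n - c, n - d)`, and `Φ d b` bounds the price of all
the remaining steps from a centre of dimension `d` with threshold `b`:

* `Φ d b ≥ 0`, `Φ n n < n + 1`,
* `(b - b') ρ(d, ⌈b⌉) + Φ d' b' ≤ Φ d b` for `d' < d`, `0 ≤ b' ≤ b`, `⌈b⌉ ≤ d`, (`d' = 0` or `⌈b'⌉ ≤ d'`).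
-/

set_option autoImplicit false

namespace K518.Path

/-- A rate function `ρ` and a potential `Φ` for chains of centres in dimension `n`. -/
structure IsPath (n : ℕ) (ρ : ℕ → ℕ → ℚ) (Φ : ℕ → ℚ → ℚ) : Prop where
  pos : ∀ d c, 0 < ρ d c
  rate : ∀ d c, 1 ≤ d → d ≤ n → 1 ≤ c → c ≤ d → ((n - c).choose (n - d) : ℚ) < ρ d c ^ d
  nonneg : ∀ d b, 0 ≤ b → 0 ≤ Φ d b
  start : Φ n n < n + 1
  step : ∀ (d d' : ℕ) (b b' : ℚ), d' < d → d ≤ n → 0 < b → ⌈b⌉₊ ≤ d → 0 ≤ b' → b' ≤ b →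
    (d' = 0 ∨ ⌈b'⌉₊ ≤ d') → (b - b') * ρ d ⌈b⌉₊ + Φ d' b' ≤ Φ d b

/-- the rates -/
def rat (n d c : ℕ) : ℚ :=
  if n = 4 ∧ d = 3 ∧ c = 1 then 14423 / 10000
  else if n = 4 ∧ d = 3 ∧ c = 2 then 126 / 100
  else if n = 4 ∧ d = 2 ∧ c = 1 then 17321 / 10000
  else if n = 3 ∧ d = 2 ∧ c = 1 then 14143 / 10000
  else 1001 / 1000

/-- the potentials -/
def pot (n d : ℕ) (b : ℚ) : ℚ :=
  if d = 0 then 0
  else if n = 4 ∧ d = 4 then 1001 / 1000 * b + (126 / 100 + 17321 / 10000 - 2 * (1001 / 1000))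
  else if n = 4 ∧ d = 3 then
    (if b ≤ 1 then 17321 / 10000 * b
     else if b ≤ 2 then (b - 1) * (126 / 100) + 17321 / 10000
     else (b - 1) * (1001 / 1000) + 17321 / 10000)
  else if n = 4 ∧ d = 2 then (if b ≤ 1 then 17321 / 10000 * b else 1001 / 1000 * b)
  else if n = 3 ∧ d = 3 then 1001 / 1000 * b + (14143 / 10000 - 1001 / 1000)
  else if n = 3 ∧ d = 2 then (if b ≤ 1 then 14143 / 10000 * b else 1001 / 1000 * b)
  else 1001 / 1000 * b

theorem ceil_cases {b : ℚ} (hb : 0 < b) {m : ℕ} (_ : ⌈b⌉₊ ≤ m) : 1 ≤ ⌈b⌉₊ ∧ ((⌈b⌉₊ : ℚ) - 1 < b) ∧ b ≤ ⌈b⌉₊ := by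
  refine ⟨Nat.one_le_iff_ne_zero.2 (Nat.ceil_pos.2 hb).ne', ?_, Nat.le_ceil b⟩
  have := Nat.ceil_lt_add_one hb.le
  linarith

theorem isPath (n : ℕ) (h1 : 1 ≤ n) (h4 : n ≤ 4) : IsPath n (rat n) (pot n) where
  pos d c := by unfold rat; split_ifs <;> norm_num
  rate d c hd hdn hc hcd := by
    interval_cases n <;> interval_cases d <;> interval_cases c <;> norm_num [rat, Nat.choose]
  nonneg d b hb := by unfold pot; split_ifs <;> linarith
  start := by interval_cases n <;> norm_num [pot]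
  step d d' b b' hd' hdn hb hc hb' hbb hor := by
    obtain ⟨c1, c2, c3⟩ := ceil_cases hb hc
    have hb'2 : d' = 0 ∨ b' ≤ d' := hor.imp id fun h => (Nat.le_ceil b').trans (by exact_mod_cast h)
    generalize hcd : ⌈b⌉₊ = c at *
    clear hor hcd
    interval_cases n <;> interval_cases d <;> interval_cases d' <;> interval_cases c <;>
      norm_num [rat, pot] at * <;> (try split_ifs) <;> linarith

end K518.Path
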